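import Cfsg.Agent.R2.Spec.X4.Q3.Tools
import Cfsg.Agent.R2.Spec.X4.OctSub
import Cfsg.Agent.H228.E3L2a
import Cfsg.Agent.H422.LTwoThirteen
import Cfsg.Agent.H380.UF.Rec
import Cfsg.Agent.S0000
import Cfsg.Agent.S0270
import Cfsg.Agent.S3440
import Cfsg.Agent.S3534
import Cfsg.Agent.S1059
import Cfsg.Agent.H200.STwo.Frame
import Cfsg.Agent.SmallSimple.S1000.PSLFacts

/-!
# `PSp₆(3)` : quasirecognition (helper19)
-/

set_option autoImplicit false
set_option linter.unusedSectionVars false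

namespace Cfsg.Agent.R2.Spec.X4.Q3

open Subgroup Cfsg Cfsg.Agent.OrdDiv
open Cfsg.Agent.H420.QR (Red IsCoq card_eq_mul)
open Cfsg.Agent.H363.Frat (NonAdj)
open Cfsg.Agent.H229.T (zt act mem_zt zt_ne_bot exists_commute)
open Cfsg.Agent.H899.O7 (Ker.comm_false)
open Cfsg.Agent.H161.Oct (AutO)

universe u v

/-- the situation -/
structure Sit (G : Type u) [Group G] [Finite G] (K : Subgroup G) [K.Normal] (S : Subgroup (G ⧸ K)) [S.Normal]
    (W : ℕ → Prop) : Prop where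
  w : W3 W
  hW : ∀ n : ℕ, W n ↔ ∃ g : G, orderOf g = n
  R : Red G K S
  nil : Group.IsNilpotent K
  alt : ¬ Nonempty (S ≃* alternatingGroup (Fin 7))

section Coq

variable {G : Type u} [Group G] [Finite G] {W : ℕ → Prop}

theorem dvd_card (w : W3 W) (hW : ∀ n : ℕ, W n ↔ ∃ g : G, orderOf g = n) {r : ℕ} (hr : r.Prime) :
    r ∣ Nat.card G ↔ r ∈ ({2, 3, 5, 7, 13} : Finset ℕ) := by
  rw [← w.prime hr, hW]
  constructor
  · intro h
    have := Fact.mk hr
    exact exists_prime_orderOf_dvd_card' r h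
  · rintro ⟨g, hg⟩
    rw [← hg]
    exact orderOf_dvd_natCard g

theorem isCoq (w : W3 W) (hW : ∀ n : ℕ, W n ↔ ∃ g : G, orderOf g = n) : IsCoq G {5, 7, 13} := by
  have n1 : ¬ W (5 * 7) := w.no (by decide)
  have n2 : ¬ W (5 * 13) := w.no (by decide)
  have n3 : ¬ W (7 * 13) := w.no (by decide)
  refine ⟨?_, ?_, ?_⟩
  · intro x hx
    simp only [Finset.mem_insert, Finset.mem_singleton] at hx
    rcases hx with rfl | rfl | rfl <;> norm_num
  · intro x hx
    simp only [Finset.mem_insert, Finset.mem_singleton] at hx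
    rcases hx with rfl | rfl | rfl
    · exact (dvd_card w hW (by norm_num)).2 (by decide)
    · exact (dvd_card w hW (by norm_num)).2 (by decide)
    · exact (dvd_card w hW (by norm_num)).2 (by decide)
  · intro x hx y hy hxy h
    have h := (hW _).2 h
    simp only [Finset.mem_insert, Finset.mem_singleton] at hx hy
    rcases hx with rfl | rfl | rfl <;> rcases hy with rfl | rfl | rfl
    · exact hxy rfl
    · exact n1 h
    · exact n2 h
    · exact n1 (by rwa [mul_comm])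
    · exact hxy rfl
    · exact n3 h
    · exact n2 (by rwa [mul_comm])
    · exact n3 (by rwa [mul_comm])
    · exact hxy rfl

end Coq

section

variable {G : Type u} [Group G] [Finite G] {K : Subgroup G} [K.Normal] {S : Subgroup (G ⧸ K)} [S.Normal]
  {W : ℕ → Prop}

theorem Sit.one (C : Sit G K S W) {r s : ℕ} (hr : r ∈ ({5, 7, 13} : Finset ℕ)) (hs : s ∈ ({5, 7, 13} : Finset ℕ))
    (h1 : r ∣ Nat.card K * S.index) (h2 : s ∣ Nat.card K * S.index) : r = s :=
  C.R.coc' _ (isCoq C.w C.hW) (by decide) r hr s hs h1 h2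

theorem Sit.cov (C : Sit G K S W) {r : ℕ} (hr : r.Prime) (h : r ∈ ({2, 3, 5, 7, 13} : Finset ℕ))
    (hS : ¬ r ∣ Nat.card S) : r ∣ Nat.card K ∨ r ∣ S.index := by
  have h1 := (dvd_card C.w C.hW hr).2 h
  rw [card_eq_mul (K := K) (S := S)] at h1
  exact hr.dvd_mul.1 ((hr.dvd_mul.1 h1).resolve_left hS)

theorem Sit.quot (C : Sit G K S W) {n : ℕ} (h : ∃ a : G ⧸ K, orderOf a = n) : W n := (C.hW _).2 (F1.exists_of_quot h)

theorem Sit.WS (C : Sit G K S W) {n : ℕ} (h : ∃ x : S, orderOf x = n) : W n := by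
  obtain ⟨x, rfl⟩ := h
  exact C.quot ⟨(x : G ⧸ K), Subgroup.orderOf_coe x⟩

theorem Sit.hnaQ (C : Sit G K S W) : ∀ r : ℕ, r.Prime → r ≠ 13 → NonAdj (G ⧸ K) 13 r := by
  intro r hr _ g hg
  exact hr.one_lt.ne' (C.w.thirteen (C.quot ⟨g, hg⟩))

theorem Sit.hnaS (C : Sit G K S W) : ∀ r : ℕ, r.Prime → r ≠ 13 → NonAdj S 13 r := fun r hr h =>
  (C.hnaQ r hr h).subgroup S

theorem Sit.kadj (C : Sit G K S W) {s v w : ℕ} (hs : s.Prime) (hv : v.Prime) (hw : w.Prime) (hsK : s ∣ Nat.card K)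
    (hw2 : w ≠ 2) (hvw : v ≠ w) (hvs : v ≠ s) (hws : w ≠ s) (h : F1.MovW S v w) : W (w * s) :=
  (C.hW _).2 (F1.kadj C.nil C.R.simple hs hw hv hw2 hvw hvs hws hsK h)

theorem Sit.ncyc (C : Sit G K S W) {s w : ℕ} (hs : s.Prime) (hw : w.Prime) (hsK : s ∣ Nat.card K) (hws : w ≠ s)
    (hw2 : w ≠ 2) (P : Subgroup S) (hP : IsPGroup w P) (hc : ¬ IsCyclic P) : W (w * s) := by
  refine (C.hW _).2 (Cfsg.Agent.H425.KStep.exists_adj K hw hs hws hw2 hsK (P.map S.subtype) (hP.map _) fun h => hc ?_)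
  exact isCyclic_of_injective (P.equivMapOfInjective S.subtype S.subtype_injective).toMonoidHom
    (P.equivMapOfInjective S.subtype S.subtype_injective).injective

theorem Sit.cyc (C : Sit G K S W) {s w m : ℕ} (hs : s.Prime) (hw : w.Prime) (hsK : s ∣ Nat.card K) (hws : w ≠ s)
    (hw2 : w ≠ 2) (h : w ^ m ∣ Nat.card S) (n1 : ¬ W (w * s)) (n2 : ¬ W (w ^ m)) : False := by
  have := Fact.mk hw
  obtain ⟨P, hP⟩ := Sylow.exists_subgroup_card_pow_prime w h
  by_cases hc : IsCyclic P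
  · obtain ⟨g, hg⟩ := hc.exists_ofOrder_eq_natCard
    apply n2
    exact C.WS ⟨g, by rw [Subgroup.orderOf_coe, hg, hP]⟩
  · exact n1 (C.ncyc hs hw hsK hws hw2 P (IsPGroup.of_card hP) hc)

/-- 13 does not divide the order of the radical -/
theorem Sit.K13 (C : Sit G K S W) : ¬ 13 ∣ Nat.card K := by
  intro h13
  have hsimp := C.R.simple
  have p13 : (13 : ℕ).Prime := by norm_num
  rcases C.R.two with (h | ⟨E, i1, i2, hodd, ⟨ε⟩⟩) | h
  · exact C.alt h
  · have h5 : 5 ∣ Nat.card S := by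
      by_contra h5
      have h1 : 5 ∣ Nat.card K * S.index := by
        rcases C.cov (by norm_num) (by decide) h5 with h | h
        · exact h.mul_right _
        · exact h.mul_left _
      have := C.one (by decide) (by decide) h1 (h13.mul_right _)
      norm_num at this
    have h7 : 7 ∣ Nat.card S := by
      by_contra h7
      have h1 : 7 ∣ Nat.card K * S.index := by
        rcases C.cov (by norm_num) (by decide) h7 with h | h
        · exact h.mul_right _
        · exact h.mul_left _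
      have := C.one (by decide) (by decide) h1 (h13.mul_right _)
      norm_num at this
    have hc : Nat.card S = Nat.card (Matrix.ProjectiveSpecialLinearGroup (Fin 2) E) := Nat.card_congr ε.toEquiv
    have hp : ∀ r : ℕ, r.Prime → r ∣ Nat.card S → r ∈ ({2, 3, 5, 7, 13} : Finset ℕ) := fun r hr h =>
      (dvd_card C.w C.hW hr).1 (h.trans C.R.pi)
    have h3 : 3 < Fintype.card E := by
      by_contra h3
      have h1 := Nat.odd_iff.1 hodd
      have h2 : 1 < Fintype.card E := Fintype.one_lt_card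
      have h4 : Fintype.card E = 3 := by omega
      rw [hc, Cfsg.Agent.H200.STwo.Frame.card_psl_three h4] at h7
      norm_num at h7
    refine Cfsg.Agent.H899.O7.Rad.false_of hodd h3 ?_ ?_ (hc ▸ h5) (hc ▸ h7) ?_
    · intro r hr hd
      have := hp r hr (hc ▸ hd)
      simp only [Finset.mem_insert, Finset.mem_singleton] at this
      omega
    · intro hd
      exact absurd (hp 11 (by norm_num) (hc ▸ hd)) (by decide)
    · intro r hr hr2 hr13 P hP
      by_contra hcy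
      have h1 : W (r * 13) := by
        refine C.ncyc p13 hr h13 hr13 hr2 (P.map ε.symm.toMonoidHom) (hP.map _) fun h => hcy ?_
        exact isCyclic_of_injective (P.equivMapOfInjective ε.symm.toMonoidHom ε.symm.injective).toMonoidHom
          (P.equivMapOfInjective ε.symm.toMonoidHom ε.symm.injective).injective
      rw [mul_comm] at h1
      exact hr.one_lt.ne' (C.w.thirteen h1)
  · exact (h 13 p13 (by norm_num) ((dvd_card C.w C.hW p13).2 (by decide))
      (fun hx => C.w.no (by decide) ((C.hW _).2 hx))).2.1 h13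

/-- the radical is trivial -/
theorem Sit.bot (C : Sit G K S W) (h1 : F1.MovW S 3 13) (h2 : F1.MovW S 2 7) : K = ⊥ := by
  rw [← Subgroup.card_eq_one]
  by_contra hne
  obtain ⟨r, hr, hrK⟩ := Nat.exists_prime_and_dvd hne
  by_cases hr3 : r = 3
  · subst hr3
    exact C.w.no (by decide) (C.kadj hr Nat.prime_two (by norm_num : (7 : ℕ).Prime) hrK (by norm_num) (by norm_num)
      (by norm_num) (by norm_num) h2)
  · have hr13 : 13 ≠ r := by
      rintro rfl
      exact C.K13 hrK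
    exact hr.one_lt.ne' (C.w.thirteen (C.kadj hr Nat.prime_three (by norm_num : (13 : ℕ).Prime) hrK (by norm_num)
      (by norm_num) (Ne.symm hr3) hr13 h1))

/-- the endomorphisms -/
def toEnd (M : Type*) [CommGroup M] : MulAut M →* AddMonoid.End (Additive M) where
  toFun f := MonoidHom.toAdditive f.toMonoidHom
  map_one' := rfl
  map_mul' _ _ := rfl

/-- `L₂(13)` -/
theorem Sit.l213 (C : Sit G K S W) (h5 : 5 ∣ Nat.card K) (hR : Real (.psl 2 13) S) : False := by
  have p5 : (5 : ℕ).Prime := by norm_num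
  obtain ⟨z, hz, hz1⟩ := zt_ne_bot C.nil p5 h5
  have key : ∀ (t : ℕ), t.Prime → ¬ 5 ∣ t → ¬ W (5 * t) → ∀ g : S, orderOf g = t → ∀ v : Additive (zt K 5),
      ((toEnd (zt K 5)).comp ((act K 5).comp S.subtype)) g v = v → v = 0 := by
    intro t ht ht5 hn g hg v hv
    by_contra hv1
    obtain ⟨n, hn1, hn2, hn3⟩ := exists_of_fixed C.hW p5 (g : G ⧸ K) (Additive.toMul v) (fun h => hv1 h) hv
    rw [Subgroup.orderOf_coe, hg] at hn2
    exact hn (C.w.dvd n _ hn1 (((Nat.coprime_primes p5 ht).2 (fun h => ht5 (h ▸ dvd_rfl))).mul_dvd_of_dvd_of_dvd hn3 hn2))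
  have h1 := Cfsg.Agent.H422.LTwoThirteen.zero_of_real hR ((toEnd (zt K 5)).comp ((act K 5).comp S.subtype))
    (fun v => Cfsg.Agent.H229.T.pow_eq K 5 (Additive.toMul v))
    (key 7 (by norm_num) (by norm_num) (C.w.no (by decide))) (key 13 (by norm_num) (by norm_num) (C.w.no (by decide)))
    (Additive.ofMul ⟨z, hz⟩)
  exact hz1 (congrArg Subtype.val h1)

/-- `G₂(3)` -/
theorem Sit.g23 (C : Sit G K S W) (h5 : 5 ∣ Nat.card K) (h13 : 13 ∣ Nat.card S) {E : Type v} [Field E] [Fintype E]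
    (hE : Fintype.card E = 3) (e : ↥S ≃* ↥(Cfsg.Lie.chevG2.group E)) : False := by
  have p5 : (5 : ℕ).Prime := by norm_num
  have p13 : (13 : ℕ).Prime := by norm_num
  have := Fact.mk Nat.prime_three
  have hch : CharP E 3 := charP_of_card_eq_prime hE
  have hinj := act_inj C.R C.nil C.hW p5 p13 (by norm_num) h5 h13 C.w.dvd (C.w.no (by decide))
  obtain ⟨e'⟩ := Cfsg.Agent.H148.Oct.nonempty_equiv E
  set ψ : ↥(AutO E) ≃* S := e'.trans e.symm with hψ
  have h2F : (2 : E) ≠ 0 := by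
    intro h
    have h1 : ((2 : ℕ) : E) = 0 := by exact_mod_cast h
    rw [CharP.cast_eq_zero_iff E 3] at h1
    norm_num at h1
  obtain ⟨g, hg, v, hv1, hv⟩ := Oct.exists_fixed (p := 3) p5 (by rw [hE]; norm_num) (Cfsg.Agent.H229.T.pow_eq K 5)
    (((act K 5).comp S.subtype).comp ψ.toMonoidHom) h2F (hinj.comp ψ.injective)
  have ho : orderOf ((ψ g : S) : G ⧸ K) = 4 * 3 := by
    rw [Subgroup.orderOf_coe, MulEquiv.orderOf_eq, hg]
  obtain ⟨n, hn1, hn2, hn3⟩ := exists_of_fixed C.hW p5 ((ψ g : S) : G ⧸ K) v hv1 hv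
  rw [ho] at hn2
  have h1 : W (12 * 5) := C.w.dvd n _ hn1 (Nat.Coprime.mul_dvd_of_dvd_of_dvd (by norm_num) hn2 hn3)
  exact C.w.no (by decide) h1

/-- `Sz(8)` -/
theorem Sit.sz8 (C : Sit G K S W) (h13 : 13 ∣ Nat.card S) (h169 : ¬ 169 ∣ Nat.card S) (h3S : ¬ 3 ∣ Nat.card S)
    {E : Type v} [Field E] [Fintype E] (hE : Fintype.card E = 2 ^ (2 * 1 + 1))
    (e : S ≃* ↥(Cfsg.Lie.Sz E (2 ^ (1 + 1)))) : False := by
  have p3 : (3 : ℕ).Prime := by norm_num
  -- 9 does not divide the order of `G / K`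
  have h9 : ¬ 9 ∣ Nat.card (G ⧸ K) := by
    intro h
    obtain ⟨a, ha⟩ := Cfsg.Agent.H899.O7.Ker.card_quot C.hnaQ S h13 h169
    have h1 : 9 ∣ Nat.card S * (13 ^ a * 12) := h.trans ha
    have h2 : Nat.Coprime 9 (Nat.card S) := by
      rw [show 9 = 3 ^ 2 by norm_num]
      exact Nat.Coprime.pow_left 2 ((Nat.Prime.coprime_iff_not_dvd p3).2 h3S)
    have h3 := h2.dvd_of_dvd_mul_left h1
    have h4 : Nat.Coprime 9 (13 ^ a) := Nat.Coprime.pow_right a (by norm_num)
    have h5 := h4.dvd_of_dvd_mul_left h3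
    norm_num at h5
  -- 3 divides the order of `K`
  have h3K : 3 ∣ Nat.card K := by
    obtain ⟨g, hg⟩ := (C.hW _).1 C.w.w9
    have h1 : orderOf (QuotientGroup.mk' K g) ∣ 3 ^ 2 := by
      have := orderOf_map_dvd (QuotientGroup.mk' K) g
      rw [hg] at this
      exact this
    obtain ⟨k, hk, hk'⟩ := (Nat.dvd_prime_pow p3).1 h1
    have hk1 : k ≤ 1 := by
      by_contra h
      have : k = 2 := by omega
      apply h9
      have h2 := orderOf_dvd_natCard (QuotientGroup.mk' K g)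
      rw [hk', this] at h2
      exact h2
    have h2 : g ^ 3 ∈ K := by
      rw [← QuotientGroup.eq_one_iff]
      change QuotientGroup.mk' K (g ^ 3) = 1
      rw [map_pow, ← orderOf_dvd_iff_pow_eq_one, hk']
      exact (pow_dvd_pow 3 hk1).trans (by norm_num)
    have h3 : orderOf (g ^ 3) = 3 := by rw [orderOf_pow' g (by norm_num), hg]; norm_num
    have h4 := orderOf_dvd_natCard (⟨g ^ 3, h2⟩ : K)
    rwa [Subgroup.orderOf_mk, h3] at h4
  exact C.w.no (by decide) (C.kadj p3 Nat.prime_two (by norm_num : (7 : ℕ).Prime) h3K (by norm_num) (by norm_num)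
    (by norm_num) (by norm_num) ((F1.MovW.congr e).2 (movW_sz8 hE)))

/-- a group with the trivial radical and no outer automorphisms -/
theorem Sit.no30 (C : Sit G K S W) (hK : K = ⊥) (hS : S = ⊤) {L : Type*} [Group L] (e : S ≃* L)
    (hL : Set.range (orderOf : L → ℕ) = Cfsg.Agent.H899.O7.Om) : False := by
  obtain ⟨ε⟩ := Cfsg.Agent.H899.O7.Main.equiv_of K hK hS e
  obtain ⟨g, hg⟩ := (C.hW _).1 C.w.w30
  have h1 : (30 : ℕ) ∈ Set.range (orderOf : L → ℕ) := ⟨ε g, by rw [MulEquiv.orderOf_eq, hg]⟩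
  rw [hL] at h1
  exact absurd h1 (by decide)

/-- **The simple group.** -/
theorem Sit.main (C : Sit G K S W) {F : Type*} [Field F] [Fintype F] (hF : Fintype.card F = 3) :
    Nonempty (S ≃* PSp 3 F) := by
  have hsimp := C.R.simple
  have hSna := C.R.nonab
  have p13 : (13 : ℕ).Prime := by norm_num
  have h13K := C.K13
  have hcG : Nat.card G = Nat.card (G ⧸ K) * Nat.card K := Subgroup.card_eq_card_quotient_mul_card_subgroup K
  have h13Q : 13 ∣ Nat.card (G ⧸ K) := by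
    have h1 := (dvd_card C.w C.hW p13).2 (by decide)
    rw [hcG] at h1
    exact ((p13.dvd_mul).1 h1).resolve_right h13K
  have h13S : 13 ∣ Nat.card S := Cfsg.Agent.H899.O7.Ker.thirteen_dvd C.hnaQ S hSna h13Q
  have hprime : ∀ r : ℕ, r.Prime → r ∣ Nat.card S → r ∈ ({2, 3, 5, 7, 13} : Finset ℕ) := fun r hr h =>
    (dvd_card C.w C.hW hr).1 (h.trans C.R.pi)
  have hsm : Cfsg.Agent.H407.Arith.Sm (Nat.card S) := by
    intro r hr hrS
    have h2 := hprime r hr hrS
    simp only [Finset.mem_insert, Finset.mem_singleton] at h2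
    omega
  have h11 : ¬ 11 ∣ Nat.card S := fun h => absurd (hprime 11 (by norm_num) h) (by decide)
  have hna : ¬ ∀ a b : S, a * b = b * a := fun h => hSna (isMulCommutative_iff.2 h)
  have hKS : IsKnownSimple' S := Cfsg.Agent.S0000.result
  have h169 : ¬ 169 ∣ Nat.card S := Cfsg.Agent.H899.O7.Arith.no169 Cfsg.Agent.OrdDiv.table hKS hna hsm h11
  have hncyc : ¬ IsCyclic S := fun h => hSna (IsCyclic.isMulCommutative (α := S))
  obtain ⟨V, hV, k, hk12, hk1, hkr, hk6⟩ := Cfsg.Agent.H899.O7.Ker.sylow_count C.hnaS hncyc h13S h169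
  obtain ⟨a, ha⟩ := Cfsg.Agent.H899.O7.Ker.card_quot C.hnaQ S h13S h169
  -- primes not dividing `|S|` divide `|K|`
  have hpK : ∀ p ∈ ({5, 7} : Finset ℕ), ¬ p ∣ Nat.card S → p ∣ Nat.card K := by
    intro p hp hpS
    have hp' : p = 5 ∨ p = 7 := by simpa using hp
    have hpp : p.Prime := by rcases hp' with rfl | rfl <;> norm_num
    have h1 : p ∣ Nat.card G := (dvd_card C.w C.hW hpp).2 (by rcases hp' with rfl | rfl <;> decide)
    rw [hcG] at h1
    rcases (hpp.dvd_mul).1 h1 with h | h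
    · exfalso
      have h3 := h.trans ha
      rcases (hpp.dvd_mul).1 h3 with h | h
      · exact hpS h
      · rcases (hpp.dvd_mul).1 h with h | h
        · have h4 := (Nat.prime_dvd_prime_iff_eq hpp p13).1 (hpp.dvd_of_dvd_pow h)
          omega
        · rcases hp' with rfl | rfl <;> norm_num at h
    · exact h
  have h5K : ¬ 5 ∣ Nat.card S → 5 ∣ Nat.card K := hpK 5 (by decide)
  have h7K : ¬ 7 ∣ Nat.card S → 7 ∣ Nat.card K := hpK 7 (by decide)
  have h49 : 5 ∣ Nat.card S ∨ ¬ 49 ∣ Nat.card S := by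
    by_cases h5 : 5 ∣ Nat.card S
    · exact Or.inl h5
    · exact Or.inr fun h => C.cyc (m := 2) (by norm_num : (5 : ℕ).Prime) (by norm_num : (7 : ℕ).Prime) (h5K h5)
        (by norm_num) (by norm_num) h (C.w.no (by decide)) (C.w.no (by decide))
  have h27 : 7 ∣ Nat.card S ∨ (¬ 27 ∣ Nat.card S ∧ ¬ 25 ∣ Nat.card S) := by
    by_cases h7 : 7 ∣ Nat.card S
    · exact Or.inl h7
    · exact Or.inr ⟨fun h => C.cyc (m := 3) (by norm_num : (7 : ℕ).Prime) (by norm_num : (3 : ℕ).Prime) (h7K h7)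
          (by norm_num) (by norm_num) h (C.w.no (by decide)) (C.w.no (by decide)),
        fun h => C.cyc (m := 2) (by norm_num : (7 : ℕ).Prime) (by norm_num : (5 : ℕ).Prime) (h7K h7)
          (by norm_num) (by norm_num) h (C.w.no (by decide)) (C.w.no (by decide))⟩
  have ht : t3 (Nat.card S) = true := by
    refine t3_of h13S h11 ?_ h27 h49
    rw [hkr]
    have hk : k ∈ Nat.divisors 12 := Nat.mem_divisors.2 ⟨hk12, by norm_num⟩
    rw [show Nat.divisors 12 = {1, 2, 3, 4, 6, 12} by decide +kernel] at hk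
    simp only [Finset.mem_insert, Finset.mem_singleton] at hk
    clear hk6 hkr hk12 ha hV hpK h5K h7K h49 h27 h169 h11 h13S h13Q h13K hcG hsm hprime
    omega
  obtain ⟨g, hg, hR⟩ := names Cfsg.Agent.OrdDiv.table hKS hna hsm ht
  have no : ∀ {n : ℕ}, ¬ (n ∣ 13 ∨ n ∣ 14 ∨ n ∣ 20 ∨ n ∣ 30 ∨ n ∣ 72) → ∀ {M : Type} [Group M] (_ : S ≃* M),
      ¬ ∃ x : M, orderOf x = n := by
    rintro n hn M _ ε ⟨x, hx⟩
    exact C.w.no hn (C.WS ⟨ε.symm x, by rw [MulEquiv.orderOf_eq, hx]⟩)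
  have h5of : ∀ {n : ℕ}, Nat.card S = n → ¬ 5 ∣ n → 5 ∣ Nat.card K := fun h h' => h5K (h ▸ h')
  simp only [surv3, List.mem_cons, List.not_mem_nil, or_false] at hg
  rcases hg with rfl | rfl | rfl | rfl | rfl | rfl | rfl | rfl | rfl
  · -- `L₂(27)`
    exfalso
    obtain ⟨E, _, _, hE, ⟨e⟩⟩ := hR
    have := Fact.mk Nat.prime_three
    have hc : CharP E 3 := charP_of_card_eq_prime_pow (f := 3) (by rw [hE]; norm_num)
    have h5 : ¬ 5 ∣ Nat.card S := by
      have h1 := Cfsg.Agent.H407.PslTwo.card_eq (F := E) (by rw [hE]; decide)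
      rw [hE, ← Nat.card_congr e.toEquiv] at h1
      intro h
      have h3 : 5 ∣ 2 * Nat.card S := h.mul_left 2
      rw [h1] at h3
      norm_num at h3
    have hM : F1.MovW S 3 13 := (F1.MovW.congr e).2 (F1.MovW.of_mov
      (Cfsg.Agent.H228.E3.mov_l2 Nat.prime_three (by norm_num) p13 (by norm_num) (by rw [hE]; norm_num))
      (Or.inl (by norm_num)))
    exact C.w.no (by decide) (C.kadj (by norm_num : (5 : ℕ).Prime) Nat.prime_three p13 (h5K h5) (by norm_num)
      (by norm_num) (by norm_num) (by norm_num) hM)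
  · -- `L₂(13)`
    exfalso
    refine C.l213 (h5K ?_) hR
    obtain ⟨E, _, _, hE, ⟨e⟩⟩ := hR
    have h1 := Cfsg.Agent.H407.PslTwo.card_eq (F := E) (by rw [hE]; decide)
    rw [hE, ← Nat.card_congr e.toEquiv] at h1
    intro h
    have h3 : 5 ∣ 2 * Nat.card S := h.mul_left 2
    rw [h1] at h3
    norm_num at h3
  · -- `PSp₆(3)`
    obtain ⟨E, _, _, hE, ⟨e⟩⟩ := hR
    exact ⟨e.trans (Cfsg.Agent.LieClassical.FieldTransfer.pspCongr 3
      ((ZMod.ringEquivOfPrime E Nat.prime_three hE).symm.trans (ZMod.ringEquivOfPrime F Nat.prime_three hF)))⟩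
  · -- `U₄(5)`
    exfalso
    obtain ⟨E, _, _, hE, ⟨e⟩⟩ := hR
    obtain ⟨x, hx⟩ := Cfsg.Agent.H380.UF.gr_U4.has21
    exact no (n := 3 * 7) (by decide) (e.trans (Cfsg.Agent.H380.UF.psuEquiv (by rw [hE]; norm_num))) ⟨x, hx⟩
  · -- `Ω₇(3)`
    exfalso
    obtain ⟨E, _, _, hE, ⟨e⟩⟩ := hR
    obtain ⟨e1⟩ := Cfsg.Agent.H899.O7.Main.equiv7 hE
    have e2 := e.trans e1
    obtain ⟨h1, h2⟩ := movW_frobs C.hnaS (Cfsg.Agent.H899.O7.Emb.frobs7.congr e2.symm)
    exact C.no30 (C.bot h1 h2) (top7 C.hnaQ S hSna C.R.cent h169 hE e) e2 Cfsg.Agent.H899.O7.Spec.range_Q7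
  · -- `PΩ₈⁺(3)`
    exfalso
    obtain ⟨E, _, _, hE, ⟨e⟩⟩ := hR
    obtain ⟨e1⟩ := Cfsg.Agent.H899.O7.Main.equiv8 hE
    have e2 := e.trans e1
    obtain ⟨h1, h2⟩ := movW_frobs C.hnaS (Cfsg.Agent.H899.O7.Emb.frobs8.congr e2.symm)
    exact C.no30 (C.bot h1 h2) (top8 C.hnaQ S hSna C.R.cent h169 hE e) e2 Cfsg.Agent.H899.O7.Spec.range_Q8
  · -- `G₂(4)`
    exfalso
    obtain ⟨E, _, _, hE, ⟨e⟩⟩ := hR
    exact no (n := 21) (by decide) e (Cfsg.Agent.H899.O7.Elim.g2_21 hE)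
  · -- `G₂(3)`
    exfalso
    obtain ⟨E, _, _, hE, ⟨e⟩⟩ := hR
    have hcS : Nat.card S = 3 ^ 6 * (3 ^ 2 - 1) * (3 ^ 6 - 1) := by
      rw [Nat.card_congr e.toEquiv, Cfsg.Agent.S1059.result (F := E) hE]
    exact C.g23 (h5of hcS (by norm_num)) h13S hE e
  · -- `Sz(8)`
    exfalso
    obtain ⟨E, _, _, m, hm, hE, hq, ⟨e⟩⟩ := hR
    have hm1 : m = 1 := by
      have h1 : (2 : ℕ) ^ 3 = 2 ^ (2 * m + 1) := hq
      have h3 := Nat.pow_right_injective le_rfl h1
      omega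
    subst hm1
    have hE' : Fintype.card E = 2 ^ (2 * 1 + 1) := by rw [hE]; norm_num
    refine C.sz8 h13S h169 ?_ hE' e
    rw [Nat.card_congr e.toEquiv, (Cfsg.Agent.OrdDiv.table.{u}).sz E 1 hm hE']
    norm_num

end

/-- **Quasirecognition of `PSp₆(3)`.** -/
theorem specQR {F : Type} [Field F] [Fintype F] (hF : Fintype.card F = 3) {L : Type v} [Group L] [Finite L]
    [IsSimpleGroup L] (e : L ≃* PSp 3 F) : SpecQR.{u, v} L := by
  intro G _ _ hω
  have w := w3_sp hF e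
  have same : ∀ n : ℕ, (∃ x : L, orderOf x = n) ↔ ∃ g : G, orderOf g = n := by
    intro n
    have h1 : n ∈ Set.range (orderOf : G → ℕ) ↔ n ∈ Set.range (orderOf : L → ℕ) := by rw [hω]
    exact h1.symm
  have p13 : (13 : ℕ).Prime := by norm_num
  have hρ := isCoq w same
  have h3 : 3 ≤ ({5, 7, 13} : Finset ℕ).card := by decide
  obtain ⟨K, hK, S, hS, R⟩ := H420.QR.exists_red hρ h3 ⟨13, p13, by norm_num, (dvd_card w same p13).2 (by decide),
    fun h => w.no (by decide) ((same _).2 h)⟩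
  have hLna : ¬ IsMulCommutative L := by
    rintro ⟨⟨hc⟩⟩
    obtain ⟨x, hx⟩ := w.w7
    obtain ⟨y, hy⟩ := w.w13
    have hxy : Commute x y := hc x y
    have h1 : orderOf (x * y) = 7 * 13 := by
      rw [hxy.orderOf_mul_eq_mul_orderOf_of_coprime (by rw [hx, hy]; norm_num), hx, hy]
    exact w.no (by decide) ⟨_, h1⟩
  have h10 : ¬ Nonempty (L ≃* alternatingGroup (Fin 10)) := by
    rintro ⟨ε⟩
    obtain ⟨y, hy⟩ := w.w13
    have h1 : 13 ∣ Nat.card (alternatingGroup (Fin 10)) := by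
      rw [← hy, ← MulEquiv.orderOf_eq ε]
      exact orderOf_dvd_natCard _
    have h2 : 2 * Nat.card (alternatingGroup (Fin 10)) = Nat.factorial 10 := by
      rw [nat_card_alternatingGroup, Nat.card_fin]
      decide
    have h3 : 13 ∣ Nat.factorial 10 := h2 ▸ h1.mul_left 2
    rw [p13.dvd_factorial] at h3
    norm_num at h3
  have hnil : Group.IsNilpotent K := Cfsg.Agent.S3440.result (H420.QR.isCoq_not_solvable hρ h3) hLna h10 hω K R.solv
  have halt : ¬ Nonempty (S ≃* alternatingGroup (Fin 7)) := by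
    rintro ⟨ε⟩
    obtain ⟨X, hX', N, hN, ⟨φ⟩⟩ := Cfsg.Agent.H200.STwo.Named.exists_factor R
    have hsimp := R.simple
    have hs : IsSimpleGroup (↥X ⧸ N) := MulEquiv.isSimpleGroup φ
    have hna : ¬ IsMulCommutative (↥X ⧸ N) := by
      rintro ⟨⟨hc⟩⟩
      apply R.nonab
      refine ⟨⟨fun a b => φ.symm.injective ?_⟩⟩
      rw [map_mul, map_mul, hc]
    have hfam : (Cfsg.IsPSp L ∧ ∀ (F : Type) [Field F] [Fintype F], Fintype.card F = 3 → ¬ Nonempty (L ≃* Cfsg.PSp 2 F)) ∨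
        Cfsg.IsPOmegaOdd L ∨ Cfsg.IsPOmegaPlus L ∨ Cfsg.IsPOmegaMinus L := by
      refine Or.inl ⟨⟨F, inferInstance, inferInstance, 3, by norm_num, by norm_num, ⟨e⟩⟩, ?_⟩
      rintro E _ _ hE ⟨ε'⟩
      obtain ⟨x, hx⟩ := w.w7
      have h1 : 7 ∣ 2 ^ 6 * (3 ^ 4 * 5) := by
        have h2 : Nat.card L = 2 ^ 6 * (3 ^ 4 * 5) := by
          rw [Nat.card_congr ε'.toEquiv, Cfsg.Agent.SmallSimple.PSLFacts.card_psp_two_three hE]
          norm_num
        rw [← h2, ← hx]
        exact orderOf_dvd_natCard x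
      norm_num at h1
    exact Cfsg.Agent.S3534.result hfam hω X (Subgroup.Normal.isSubnormal hX') N hs hna 7 ⟨φ.trans ε⟩
  have C : Sit G K S (fun n => ∃ x : L, orderOf x = n) := ⟨w, same, R, hnil, halt⟩
  obtain ⟨ε⟩ := C.main hF
  exact R.quasi ⟨ε.trans e.symm⟩

end Cfsg.Agent.R2.Spec.X4.Q3
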