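import Cfsg.Agent.H899.O7.Arith
import Cfsg.Agent.H899.O7.Elts
import Cfsg.Agent.R2.Spec.X4.LSp

/-!
# `PSp₆(3)` : element orders, the arithmetic test (helper19, after helper899)
-/

set_option autoImplicit false
set_option maxRecDepth 100000

namespace Cfsg.Agent.R2.Spec.X4.Q3

open Cfsg Matrix Cfsg.Agent.OrdDiv Cfsg.Agent.H388.FinSimple
open Cfsg.Agent.H407.Arith (Sm smB smB_of pars mem_pars)
open Cfsg.Agent.H899.O7.Arith (gfams lst enum)
open Cfsg.Agent.H899.O7.Elts (M6 mu gu)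

universe u

/-! ### an element of order 9 -/

def n1 : M6 := fromBlocks !![1, 1, 0; 0, 1, 1; 0, 0, 1] !![0, 0, 0; 0, 0, 1; 0, 0, 1] !![0, 0, 0; 0, 0, 0; 0, 0, 0] !![1, 0, 0; 2, 1, 0; 1, 2, 1]
def n3 : M6 := fromBlocks !![1, 0, 0; 0, 1, 0; 0, 0, 1] !![1, 2, 1; 2, 2, 0; 1, 0, 0] !![0, 0, 0; 0, 0, 0; 0, 0, 0] !![1, 0, 0; 0, 1, 0; 0, 0, 1]

theorem e3 : n1 ^ 3 = n3 := by rw [pow_succ, pow_two]; decide +kernel
theorem e9 : n1 ^ 9 = 1 := by rw [show 9 = 3 * 3 from rfl, pow_mul, e3, pow_succ, pow_two]; decide +kernel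

def h1 : symplecticGroup (Fin 3) (ZMod 3) := ⟨n1, (SymplecticGroup.mem_iff (A := n1)).2 (by decide +kernel)⟩

theorem ne3 : ¬ mu * n3 = n3 * mu := by decide +kernel

theorem nine_three : ∃ g : PSp 3 (ZMod 3), orderOf g = 9 := by
  refine ⟨QuotientGroup.mk h1, ?_⟩
  have : Fact (Nat.Prime 3) := ⟨Nat.prime_three⟩
  refine orderOf_eq_prime_pow (p := 3) (n := 1) ?_ ?_
  · intro h
    rw [pow_one, ← QuotientGroup.mk_pow, QuotientGroup.eq_one_iff, Subgroup.mem_center_iff] at h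
    have h2 : mu * n1 ^ 3 = n1 ^ 3 * mu := congrArg Subtype.val (h gu)
    rw [e3] at h2
    exact ne3 h2
  · rw [← QuotientGroup.mk_pow]
    have h2 : h1 ^ 3 ^ (1 + 1) = 1 := Subtype.ext e9
    rw [h2]
    rfl

theorem nine {F : Type*} [Field F] [Fintype F] (hF : Fintype.card F = 3) : ∃ g : PSp 3 F, orderOf g = 9 := by
  obtain ⟨g, hg⟩ := nine_three
  let e := Cfsg.Agent.LieClassical.FieldTransfer.pspCongr 3 (ZMod.ringEquivOfPrime F Nat.prime_three hF)
  exact ⟨e g, by rw [MulEquiv.orderOf_eq, hg]⟩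

/-! ### the facts -/

/-- the facts about the element orders of `PSp₆(3)` -/
structure W3 (W : ℕ → Prop) : Prop where
  dvd : ∀ n d : ℕ, W n → d ∣ n → W d
  up : ∀ n : ℕ, W n → n ∣ 13 ∨ n ∣ 14 ∨ n ∣ 20 ∨ n ∣ 30 ∨ n ∣ 72
  w7 : W 7
  w13 : W 13
  w9 : W 9
  w30 : W 30

section

variable {W : ℕ → Prop} (h : W3 W)

include h

theorem W3.no {n : ℕ} (hn : ¬ (n ∣ 13 ∨ n ∣ 14 ∨ n ∣ 20 ∨ n ∣ 30 ∨ n ∣ 72)) : ¬ W n := fun h' => hn (h.up n h')

theorem W3.thirteen {s : ℕ} (hs : W (13 * s)) : s = 1 := by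
  have h13 : ∀ n : ℕ, 13 * s ∣ n → 13 ∣ n := fun n hn => (Dvd.intro s rfl).trans hn
  rcases h.up _ hs with h1 | h1 | h1 | h1 | h1
  · exact Nat.dvd_one.1 (Nat.dvd_of_mul_dvd_mul_left (by norm_num : 0 < 13) (by rwa [mul_one]))
  all_goals exact absurd (h13 _ h1) (by norm_num)

theorem W3.prime {r : ℕ} (hr : r.Prime) : W r ↔ r ∈ ({2, 3, 5, 7, 13} : Finset ℕ) := by
  constructor
  · intro h1
    have hle : r ≤ 72 := by
      rcases h.up r h1 with h | h | h | h | h <;> have := Nat.le_of_dvd (by norm_num) h <;> omega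
    have key : r ∣ 2 * 3 * 5 * 7 * 13 := by
      rcases h.up r h1 with h | h | h | h | h
      · exact h.trans (by norm_num)
      · exact h.trans (by norm_num)
      · have h2 : r ∣ 10 ^ 2 := h.trans (by norm_num)
        exact (hr.dvd_of_dvd_pow h2).trans (by norm_num)
      · exact h.trans (by norm_num)
      · have h2 : r ∣ 6 ^ 3 := h.trans (by norm_num)
        exact (hr.dvd_of_dvd_pow h2).trans (by norm_num)
    simp only [hr.dvd_mul] at key
    have hp : ∀ p : ℕ, p.Prime → r ∣ p → r = p := fun p hp h => (Nat.prime_dvd_prime_iff_eq hr hp).1 h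
    simp only [Finset.mem_insert, Finset.mem_singleton]
    rcases key with (((h | h) | h) | h) | h
    · exact Or.inl (hp 2 (by norm_num) h)
    · exact Or.inr (Or.inl (hp 3 (by norm_num) h))
    · exact Or.inr (Or.inr (Or.inl (hp 5 (by norm_num) h)))
    · exact Or.inr (Or.inr (Or.inr (Or.inl (hp 7 (by norm_num) h))))
    · exact Or.inr (Or.inr (Or.inr (Or.inr (hp 13 (by norm_num) h))))
  · intro h1
    simp only [Finset.mem_insert, Finset.mem_singleton] at h1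
    rcases h1 with rfl | rfl | rfl | rfl | rfl
    · exact h.dvd _ _ h.w30 (by norm_num)
    · exact h.dvd _ _ h.w30 (by norm_num)
    · exact h.dvd _ _ h.w30 (by norm_num)
    · exact h.w7
    · exact h.w13

end

/-- the facts for `PSp₆(3)` -/
theorem w3_sp {F : Type*} [Field F] [Fintype F] (hF : Fintype.card F = 3) {L : Type*} [Group L] (e : L ≃* PSp 3 F) :
    W3 (fun n => ∃ x : L, orderOf x = n) := by
  have := Fact.mk Nat.prime_three
  have hch : CharP F 3 := charP_of_card_eq_prime hF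
  have hfin : Finite L := Finite.of_equiv _ e.symm.toEquiv
  have hL : ∀ n : ℕ, (∃ x : PSp 3 F, orderOf x = n) → ∃ x : L, orderOf x = n := by
    rintro n ⟨x, hx⟩
    exact ⟨e.symm x, by rw [MulEquiv.orderOf_eq, hx]⟩
  have hc : Nat.card (symplecticGroup (Fin 3) F) = 3 ^ 9 * ((3 ^ 2 - 1) * (3 ^ 4 - 1) * (3 ^ 6 - 1)) := by
    rw [Cfsg.Agent.LieClassical.SympCount.card_symplecticGroup, hF]
    simp [Finset.prod_range_succ]
  have hd : ∀ n : ℕ, n.Prime → n ≠ 2 → n ∣ Nat.card (symplecticGroup (Fin 3) F) → ∃ x : L, orderOf x = n := by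
    intro n hn hn2 hd
    have := Fact.mk hn
    obtain ⟨x, hx⟩ := exists_prime_orderOf_dvd_card' n hd
    refine hL n ⟨QuotientGroup.mk x, orderOf_eq_prime ?_ ?_⟩
    · rw [← QuotientGroup.mk_pow, ← hx, pow_orderOf_eq_one]
      rfl
    · intro h
      have h2 : x ^ 2 = 1 := by
        rcases ClassicalGeometry.SympInvolutions.center_eq ((QuotientGroup.eq_one_iff _).1 h) with h4 | h4
        · rw [show x = 1 from Subtype.ext h4, one_pow]
        · refine Subtype.ext ?_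
          change x.1 ^ 2 = 1
          rw [h4, neg_one_sq]
      have h3 := orderOf_dvd_of_pow_eq_one h2
      rw [hx] at h3
      exact hn2 ((Nat.prime_dvd_prime_iff_eq hn Nat.prime_two).1 h3)
  refine ⟨?_, ?_, ?_, ?_, hL _ (nine hF), hL _ (Cfsg.Agent.H899.O7.Elts.psp hF)⟩
  · rintro n d ⟨x, rfl⟩ hd
    refine ⟨x ^ (orderOf x / d), ?_⟩
    exact orderOf_pow_orderOf_div (orderOf_pos x).ne' hd
  · rintro n ⟨x, rfl⟩
    have h := ub_sp (F := F) (p := 3) (by norm_num) (e x)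
    rw [MulEquiv.orderOf_eq, hF] at h
    rcases h with h | h | h | h | h | h | ⟨-, h⟩
    · exact Or.inl (by simpa using h)
    · exact Or.inr (Or.inl (by simpa using h))
    · exact Or.inr (Or.inr (Or.inl (h.trans (by norm_num))))
    · exact Or.inr (Or.inr (Or.inl (h.trans (by norm_num))))
    · exact Or.inr (Or.inr (Or.inr (Or.inl (h.trans (by norm_num)))))
    · exact Or.inr (Or.inr (Or.inr (Or.inr (h.trans (by norm_num)))))
    · exact Or.inr (Or.inr (Or.inr (Or.inr (h.trans (by norm_num)))))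
  · exact hd 7 (by norm_num) (by norm_num) (by rw [hc]; norm_num)
  · exact hd 13 (by norm_num) (by norm_num) (by rw [hc]; norm_num)

/-! ### the test -/

def t3 (c : ℕ) : Bool :=
  Nat.beq (c % 13) 0 && !(Nat.beq (c % 11) 0) &&
    (Nat.beq (c / 13 % 13) 2 || Nat.beq (c / 13 % 13) 3 || Nat.beq (c / 13 % 13) 4 ||
      Nat.beq (c / 13 % 13) 6 || Nat.beq (c / 13 % 13) 12) &&
    (Nat.beq (c % 7) 0 || (!(Nat.beq (c % 27) 0) && !(Nat.beq (c % 25) 0))) &&
    (Nat.beq (c % 5) 0 || !(Nat.beq (c % 49) 0))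

theorem check_alt3 : ∀ n ∈ List.range 17, t3 (n.factorial / 2) = false := by decide +kernel
theorem check_spor3 : ∀ x ∈ spor, (t3 x.2 && smB x.2) = false := by decide +kernel

/-- the survivors -/
def surv3 : List Grp := [.psl 2 27, .psl 2 13, .psp 3 3, .psu 4 5, .oodd 3 3, .oplus 4 3, .g2 4, .g2 3, .sz 8]

theorem check3 : (gfams.flatMap fun X => (lst t3 X.1).map fun x => X.2 x.1 x.2) = surv3 := by decide +kernel

/-- **The simple groups surviving the arithmetic conditions.** -/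
theorem names (T : OrderTable.{u}) {S : Type u} [Group S] [Finite S] (hS : IsKnownSimple' S)
    (hna : ¬ ∀ a b : S, a * b = b * a) (hm : Sm (Nat.card S)) (ht : t3 (Nat.card S) = true) :
    ∃ g ∈ surv3, Real g S := by
  obtain ⟨X, hX, n, q, hnq, hR⟩ := enum t3 T hS hna hm ht check_alt3 check_spor3
  refine ⟨X.2 n q, ?_, hR⟩
  rw [← check3, List.mem_flatMap]
  exact ⟨X, hX, List.mem_map.2 ⟨(n, q), hnq, rfl⟩⟩

theorem t3_of {c : ℕ} (h13 : 13 ∣ c) (h11 : ¬ 11 ∣ c)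
    (hr : c / 13 % 13 = 2 ∨ c / 13 % 13 = 3 ∨ c / 13 % 13 = 4 ∨ c / 13 % 13 = 6 ∨ c / 13 % 13 = 12)
    (h7 : 7 ∣ c ∨ (¬ 27 ∣ c ∧ ¬ 25 ∣ c)) (h5 : 5 ∣ c ∨ ¬ 49 ∣ c) : t3 c = true := by
  have hb : ∀ a b : ℕ, (Nat.beq a b = true) ↔ a = b := fun a b => by rw [Nat.beq_eq]
  have hm : ∀ a : ℕ, a ∣ c → c % a = 0 := fun a => Nat.mod_eq_zero_of_dvd
  have hm' : ∀ a : ℕ, ¬ a ∣ c → c % a ≠ 0 := fun a h h1 => h (Nat.dvd_of_mod_eq_zero h1)
  unfold t3
  simp only [Bool.and_eq_true, Bool.or_eq_true, Bool.not_eq_true', ← Bool.not_eq_true, hb]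
  refine ⟨⟨⟨⟨hm _ h13, hm' _ h11⟩, ?_⟩, ?_⟩, ?_⟩
  · tauto
  · rcases h7 with h | ⟨h, h'⟩
    · exact Or.inl (hm _ h)
    · exact Or.inr ⟨hm' _ h, hm' _ h'⟩
  · rcases h5 with h | h
    · exact Or.inl (hm _ h)
    · exact Or.inr (hm' _ h)

end Cfsg.Agent.R2.Spec.X4.Q3
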