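import Cfsg.Agent.R2.Spec.X4.Q3.Elt
import Cfsg.Agent.R2.Spec.X4.Own
import Cfsg.Agent.H899.O7.Main

/-!
# `PSp₆(3)` : tools (helper19, after helper899)

* `movW_sz8` : an element of order 7 of `Sz(8)` moves a 2-subgroup;
* `movW_frobs` : the same for `Ω₇(3)`, `PΩ₈⁺(3)`, with an element of order 13 moving a 3-subgroup;
* `top7`, `top8` : no outer automorphisms.
-/

set_option autoImplicit false
set_option linter.unusedSectionVars false

namespace Cfsg.Agent.R2.Spec.X4.Q3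

open Subgroup Cfsg Cfsg.Agent.OrdDiv
open Cfsg.Agent.H363.Frat (NonAdj)
open Cfsg.Agent.H899.O7 (Ker.comm_false)
open Cfsg.Agent.H899.O7.Emb (Frobs)
open Cfsg.Agent.H899.O7.PolyList (R)
open Cfsg.Agent.H899.O7.Spec (Q7 Q8)

universe u

theorem seven_fermat (k : ℕ) : 7 ≠ 2 ^ k + 1 := by
  intro h
  rcases Nat.lt_or_ge k 3 with h1 | h1
  · interval_cases k <;> norm_num at h
  · have := Nat.pow_le_pow_right (n := 2) (by norm_num) h1
    omega

theorem movW_sz8 {F : Type*} [Field F] [Fintype F] (hF : Fintype.card F = 2 ^ (2 * 1 + 1)) :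
    F1.MovW ↥(Cfsg.Lie.Sz F (2 ^ (1 + 1))) 2 7 := by
  classical
  have H := Cfsg.Agent.LieRecognition.SzMatrix.good hF
  obtain ⟨k, hk⟩ := (inferInstance : IsCyclic Fˣ).exists_ofOrder_eq_natCard
  have hk7 : orderOf k = 7 := by rw [hk, Nat.card_eq_fintype_card, Fintype.card_units, hF]; norm_num
  have : Fact (Nat.Prime 7) := ⟨by norm_num⟩
  let D : Fˣ →* ↥(Cfsg.Lie.Sz F (2 ^ (1 + 1))) :=
    { toFun := H.d
      map_one' := H.d_one
      map_mul' := fun a b => (H.d_mul a b).symm }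
  have hDi : Function.Injective D := fun a b h => H.d_inj h
  refine ⟨Cfsg.Agent.Schreier.Sz.zen H, D k, ?_, by rw [orderOf_injective D hDi, hk7], ?_, ?_, Or.inr (Or.inl seven_fermat)⟩
  · intro g
    exact ⟨1, Subtype.ext ((pow_two _).trans ((Cfsg.Agent.Schreier.Sz.mem_zen_iff H).1 g.2).2)⟩
  · rintro _ ⟨b, rfl⟩
    refine ⟨b * Cfsg.Agent.LieRecognition.SzMatrix.theta hF k, ?_⟩
    rw [mul_inv_eq_iff_eq_mul.2]
    change H.d k * H.u 0 b = H.u 0 _ * H.d k
    rw [H.d_mul_u]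
    congr 2
    simp
  · refine ⟨H.u 0 1, ⟨1, rfl⟩, ?_⟩
    intro h1
    change H.d k * H.u 0 1 = H.u 0 1 * H.d k at h1
    rw [H.d_mul_u] at h1
    have h2 := (H.u_inj (mul_right_cancel h1)).2
    have h4 : (1 : F) * (Cfsg.Agent.LieRecognition.SzMatrix.theta hF k) = 1 := h2
    rw [one_mul] at h4
    have h6 : (k : F) = 1 := (Cfsg.Agent.LieRecognition.SzMatrix.theta hF).injective (by rw [h4, map_one])
    have h7 : k = 1 := Units.ext h6
    rw [h7, orderOf_one] at hk7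
    norm_num at hk7

theorem movW_frobs {L : Type*} [Group L] [Finite L] (hna : ∀ r : ℕ, r.Prime → r ≠ 13 → NonAdj L 13 r) (h : Frobs L) :
    F1.MovW L 3 13 ∧ F1.MovW L 2 7 := by
  constructor
  · obtain ⟨V, y, hV, hV3, hy, hyV⟩ := h.three
    refine ⟨V, y, hV3, hy, hyV, ?_, Or.inl (by norm_num)⟩
    obtain ⟨a, ha, ha1⟩ := V.bot_or_exists_ne_one.resolve_left hV
    refine ⟨a, ha, fun h1 => ?_⟩
    refine Ker.comm_false hna hy ha1 ?_ h1
    intro hd
    obtain ⟨k, hk⟩ := hV3 ⟨a, ha⟩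
    have hk' : a ^ 3 ^ k = 1 := congrArg Subtype.val hk
    have p13 : (13 : ℕ).Prime := by norm_num
    have h2 := p13.dvd_of_dvd_pow (hd.trans (orderOf_dvd_of_pow_eq_one hk'))
    norm_num at h2
  · obtain ⟨E, z, hE, hE2, hz, hzE, hfix⟩ := h.two
    refine ⟨E, z, hE2, hz, hzE, ?_, Or.inr (Or.inl seven_fermat)⟩
    obtain ⟨a, ha, ha1⟩ := E.bot_or_exists_ne_one.resolve_left hE
    exact ⟨a, ha, fun h1 => ha1 (hfix a ha h1)⟩

section

variable {Q : Type u} [Group Q] [Finite Q] (hnaQ : ∀ r : ℕ, r.Prime → r ≠ 13 → NonAdj Q 13 r) (S : Subgroup Q)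
  [S.Normal] [IsSimpleGroup S] (hSna : ¬ IsMulCommutative S) (hC : centralizer (S : Set Q) = ⊥)
  (h169 : ¬ 169 ∣ Nat.card S)

include hnaQ hSna hC h169

theorem top7 {F : Type*} [Field F] [Fintype F] (hF : Fintype.card F = 3) (e : S ≃* POmega F (quadFormOdd 3 F)) :
    S = ⊤ := by
  have : Fact (Nat.Prime 3) := ⟨Nat.prime_three⟩
  have hcard : Fintype.card F = 3 ^ 1 := by rw [hF, pow_one]
  have hnaS : ∀ r : ℕ, r.Prime → r ≠ 13 → NonAdj S 13 r := fun r hr h => (hnaQ r hr h).subgroup S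
  have h1m : Subsingleton (Multiplicative (ZMod 1)) := inferInstanceAs (Subsingleton (ZMod 1))
  obtain ⟨e1⟩ := Cfsg.Agent.H899.O7.Main.equiv7 hF
  have e2 := e.trans e1
  obtain ⟨x, α, hx, hαx, hα2, hα1⟩ := Cfsg.Agent.H899.O7.Main.transport e2 Cfsg.Agent.H899.O7.Aut.data7
  obtain ⟨ε⟩ := Cfsg.Agent.H899.O7.Main.outEquiv e
  obtain ⟨δ⟩ := Cfsg.Agent.S2604.result (F := F) (p := 3) (f := 1) (m := 3) le_rfl hcard (by norm_num) le_rfl
  have hout : Nat.card (Out S) = 2 := by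
    rw [Nat.card_congr (ε.trans δ).toEquiv, Nat.card_congr Multiplicative.toAdd, Nat.card_prod, Nat.card_zmod,
      Nat.card_zmod]
  have hX : Cfsg.Agent.H899.O7.Fin.X x = ⊤ := by
    have : Fact (Nat.card (Out S)).Prime := ⟨by rw [hout]; exact Nat.prime_two⟩
    refine (Subgroup.eq_bot_or_eq_top_of_prime_card (Cfsg.Agent.H899.O7.Fin.X x)).resolve_left ?_
    intro h
    have h3 : QuotientGroup.mk' (Inn S) α ∈ Cfsg.Agent.H899.O7.Fin.X x := ⟨α, hαx, rfl⟩
    rw [h, Subgroup.mem_bot] at h3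
    apply hα1
    rw [pow_one]
    exact Cfsg.Agent.H899.O7.Fin.inner_trivial hnaS hx hSna ((QuotientGroup.eq_one_iff _).1 h3) hαx hα2 (by norm_num)
  exact Cfsg.Agent.H899.O7.Fin.top_of hnaQ S hC hx hX (by rw [hout]; norm_num)

theorem top8 {F : Type*} [Field F] [Fintype F] (hF : Fintype.card F = 3) (e : S ≃* POmega F (quadFormPlus 4 F)) :
    S = ⊤ := by
  have : Fact (Nat.Prime 3) := ⟨Nat.prime_three⟩
  have hcard : Fintype.card F = 3 ^ 1 := by rw [hF, pow_one]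
  have hnaS : ∀ r : ℕ, r.Prime → r ≠ 13 → NonAdj S 13 r := fun r hr h => (hnaQ r hr h).subgroup S
  have h1m : Subsingleton (Multiplicative (ZMod 1)) := inferInstanceAs (Subsingleton (ZMod 1))
  obtain ⟨e1⟩ := Cfsg.Agent.H899.O7.Main.equiv8 hF
  have e2 := e.trans e1
  obtain ⟨x, α, hx, hαx, hα4, hα2⟩ := Cfsg.Agent.H899.O7.Main.transport e2 Cfsg.Agent.H899.O7.Aut.data8
  obtain ⟨ε⟩ := Cfsg.Agent.H899.O7.Main.outEquiv e
  have hδ := Cfsg.Agent.S2608.result (F := F) (p := 3) (f := 1) (m := 4) le_rfl hcard (by norm_num) le_rfl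
  rw [if_pos rfl] at hδ
  obtain ⟨δ⟩ := hδ
  let η : Out S →* Equiv.Perm (_root_.Fin 4) := (MonoidHom.fst _ _).comp (ε.trans δ).toMonoidHom
  have hηi : Function.Injective η := by
    intro a b hab
    apply (ε.trans δ).injective
    exact Prod.ext hab (Subsingleton.elim _ _)
  have hηs : Function.Surjective η := fun s => by
    refine ⟨(ε.trans δ).symm (s, 1), ?_⟩
    change ((ε.trans δ) ((ε.trans δ).symm (s, 1))).1 = s
    rw [MulEquiv.apply_symm_apply]
  have hout : Nat.card (Out S) = 24 := by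
    rw [Nat.card_congr (Equiv.ofBijective η ⟨hηi, hηs⟩), Nat.card_perm, Nat.card_fin]
    rfl
  have hX : Cfsg.Agent.H899.O7.Fin.X x = ⊤ := by
    have h3 : (Cfsg.Agent.H899.O7.Fin.X x).map η = ⊤ := by
      refine Cfsg.Agent.H899.O7.Fin.perm_four _ ?_ (t := η (QuotientGroup.mk' (Inn S) α)) ⟨_, ⟨α, hαx, rfl⟩, rfl⟩ ?_ ?_
      · intro a b
        obtain ⟨a, rfl⟩ := hηs a
        obtain ⟨b, rfl⟩ := hηs b
        rw [← map_inv, ← map_inv, ← map_mul, ← map_mul, ← map_mul]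
        exact mem_map_of_mem η (Cfsg.Agent.H899.O7.Fin.comm_mem h169 hx a b)
      · intro h
        rw [← map_pow, ← map_pow, map_eq_one_iff η hηi] at h
        apply hα2
        refine Cfsg.Agent.H899.O7.Fin.inner_trivial hnaS hx hSna ((QuotientGroup.eq_one_iff _).1 h) ?_ (n := 2) ?_
          (by norm_num)
        · rw [pow_two, MulAut.mul_apply, hαx, hαx]
        · rw [← pow_mul]; exact hα4
      · rw [← map_pow, ← map_pow, hα4, map_one, map_one]
    rw [eq_top_iff]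
    intro o _
    have h4 : η o ∈ (Cfsg.Agent.H899.O7.Fin.X x).map η := by rw [h3]; trivial
    obtain ⟨o', ho', h5⟩ := h4
    rwa [← hηi h5]
  exact Cfsg.Agent.H899.O7.Fin.top_of hnaQ S hC hx hX (by rw [hout]; norm_num)

end

end Cfsg.Agent.R2.Spec.X4.Q3
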